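import Mathlib.RingTheory.MvPowerSeries.Basic
import Mathlib.Algebra.Order.Ring.Int
import Mathlib.Algebra.BigOperators.Finsupp.Basic
import Mathlib.Algebra.Order.BigOperators.Group.Finset
import Mathlib.Data.Nat.Choose.Basic
import Mathlib.Tactic.Ring
import Mathlib.Tactic.Linarith

/-!
Supports of the generating series of Hodge numbers of complete intersections.
-/

set_option autoImplicit false

namespace Groth.L28.HodgeSeries

open MvPowerSeries Finset

/-- series in two variables -/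
abbrev S2 := MvPowerSeries (Fin 2) ℤ

/-- exponent -/
noncomputable def ex (p q : ℕ) : Fin 2 →₀ ℕ := Finsupp.single 0 p + Finsupp.single 1 q

@[simp] lemma ex_zero' (p q : ℕ) : ex p q 0 = p := by simp [ex]

@[simp] lemma ex_one' (p q : ℕ) : ex p q 1 = q := by simp [ex]

lemma ex_self (e : Fin 2 →₀ ℕ) : ex (e 0) (e 1) = e := by
  ext i; fin_cases i <;> simp

lemma ex_add (p q p' q' : ℕ) : ex p q + ex p' q' = ex (p + p') (q + q') := by
  ext i; fin_cases i <;> simp

lemma ex_inj {p q p' q' : ℕ} : ex p q = ex p' q' ↔ p = p' ∧ q = q' :=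
  ⟨fun h => ⟨by simpa using congrArg (· 0) h, by simpa using congrArg (· 1) h⟩, by rintro ⟨rfl, rfl⟩; rfl⟩

/-- all coefficients are nonnegative -/
def Nonneg (f : S2) : Prop := ∀ e, 0 ≤ coeff e f

lemma coeff_one' (e : Fin 2 →₀ ℕ) : coeff e (1 : S2) = if e = 0 then 1 else 0 := by
  classical exact coeff_one e

lemma nonneg_one : Nonneg 1 := fun e => by
  rw [coeff_one']; split <;> simp

lemma Nonneg.add {f g : S2} (hf : Nonneg f) (hg : Nonneg g) : Nonneg (f + g) := fun e => by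
  rw [map_add]; exact add_nonneg (hf e) (hg e)

lemma Nonneg.mul {f g : S2} (hf : Nonneg f) (hg : Nonneg g) : Nonneg (f * g) := fun e => by
  classical
  rw [coeff_mul]; exact Finset.sum_nonneg fun x _ => mul_nonneg (hf _) (hg _)

lemma Nonneg.pow {f : S2} (hf : Nonneg f) : ∀ n : ℕ, Nonneg (f ^ n)
  | 0 => by rw [pow_zero]; exact nonneg_one
  | n + 1 => by rw [pow_succ]; exact (hf.pow n).mul hf

lemma nonneg_prod {ι : Type*} (s : Finset ι) (f : ι → S2) (hf : ∀ i ∈ s, Nonneg (f i)) :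
    Nonneg (∏ i ∈ s, f i) := Finset.prod_induction f Nonneg (fun _ _ => Nonneg.mul) nonneg_one hf

lemma le_coeff_mul {f g : S2} (hf : Nonneg f) (hg : Nonneg g) (e₁ e₂ : Fin 2 →₀ ℕ) :
    coeff e₁ f * coeff e₂ g ≤ coeff (e₁ + e₂) (f * g) := by
  classical
  rw [coeff_mul]
  exact Finset.single_le_sum (f := fun x : (Fin 2 →₀ ℕ) × (Fin 2 →₀ ℕ) => coeff x.1 f * coeff x.2 g)
    (fun x _ => mul_nonneg (hf _) (hg _)) (a := (e₁, e₂)) (by simp)

lemma pos_mul {f g : S2} (hf : Nonneg f) (hg : Nonneg g) {e₁ e₂ : Fin 2 →₀ ℕ}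
    (h₁ : 0 < coeff e₁ f) (h₂ : 0 < coeff e₂ g) : 0 < coeff (e₁ + e₂) (f * g) :=
  lt_of_lt_of_le (mul_pos h₁ h₂) (le_coeff_mul hf hg e₁ e₂)

lemma exists_of_coeff_mul_ne {f g : S2} {p q : ℕ} (h : coeff (ex p q) (f * g) ≠ 0) :
    ∃ p₁ q₁ p₂ q₂, p = p₁ + p₂ ∧ q = q₁ + q₂ ∧ coeff (ex p₁ q₁) f ≠ 0 ∧ coeff (ex p₂ q₂) g ≠ 0 := by
  classical
  rw [coeff_mul] at h
  obtain ⟨x, hx, hne⟩ := Finset.exists_ne_zero_of_sum_ne_zero h
  rw [Finset.HasAntidiagonal.mem_antidiagonal] at hx
  refine ⟨x.1 0, x.1 1, x.2 0, x.2 1, ?_, ?_, ?_, ?_⟩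
  · simpa using (congrArg (· 0) hx).symm
  · simpa using (congrArg (· 1) hx).symm
  · rw [ex_self]; exact left_ne_zero_of_mul hne
  · rw [ex_self]; exact right_ne_zero_of_mul hne

/-- the denominator series -/
noncomputable def Pser (b : ℕ) : S2 := ∑ u ∈ range (b + 1), ∑ v ∈ range (b + 1),
  if 1 ≤ u ∧ 1 ≤ v ∧ u + v ≤ b then (b.choose (u + v) : S2) * X 0 ^ u * X 1 ^ v else 0

/-- the numerator series -/
noncomputable def Nser (b : ℕ) : S2 := ∑ u ∈ range b, ∑ v ∈ range b,
  if u + v + 1 ≤ b - 1 then ((b - 1).choose (u + v + 1) : S2) * X 0 ^ u * X 1 ^ v else 0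

lemma coeff_term (c u v p q : ℕ) :
    coeff (ex p q) ((c : S2) * X 0 ^ u * X 1 ^ v) = if p = u ∧ q = v then (c : ℤ) else 0 := by
  classical
  rw [← map_natCast (C (σ := Fin 2) (R := ℤ)), mul_assoc, coeff_C_mul, X_pow_eq, X_pow_eq,
    monomial_mul_monomial, coeff_monomial, ← ex]
  simp only [ex_inj]
  split <;> simp

lemma coeff_grid (n : ℕ) (P : ℕ → ℕ → Prop) [∀ u v, Decidable (P u v)] (c : ℕ → ℕ → ℕ) (p q : ℕ)
    (hP : ∀ u v, P u v → u < n ∧ v < n) :
    coeff (ex p q) (∑ u ∈ range n, ∑ v ∈ range n,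
      if P u v then (c u v : S2) * X 0 ^ u * X 1 ^ v else 0) = if P p q then (c p q : ℤ) else 0 := by
  rw [map_sum, Finset.sum_eq_single p]
  · rw [map_sum, Finset.sum_eq_single q]
    · split
      · rw [coeff_term, if_pos ⟨rfl, rfl⟩]
      · exact map_zero _
    · intro v _ hv
      split
      · rw [coeff_term, if_neg (fun h => hv h.2.symm)]
      · exact map_zero _
    · intro hq
      rw [if_neg (fun h => hq (mem_range.2 (hP _ _ h).2)), map_zero]
  · intro u _ hu
    rw [map_sum]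
    refine Finset.sum_eq_zero fun v _ => ?_
    split
    · rw [coeff_term, if_neg (fun h => hu h.1.symm)]
    · exact map_zero _
  · intro hp
    rw [map_sum]
    refine Finset.sum_eq_zero fun v _ => ?_
    rw [if_neg (fun h => hp (mem_range.2 (hP _ _ h).1)), map_zero]

lemma coeff_Pser (b p q : ℕ) :
    coeff (ex p q) (Pser b) = if 1 ≤ p ∧ 1 ≤ q ∧ p + q ≤ b then (b.choose (p + q) : ℤ) else 0 :=
  coeff_grid (b + 1) (fun u v => 1 ≤ u ∧ 1 ≤ v ∧ u + v ≤ b) (fun u v => b.choose (u + v)) p q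
    fun u v h => ⟨by omega, by omega⟩

lemma coeff_Nser (b p q : ℕ) :
    coeff (ex p q) (Nser b) = if p + q + 1 ≤ b - 1 then ((b - 1).choose (p + q + 1) : ℤ) else 0 :=
  coeff_grid b (fun u v => u + v + 1 ≤ b - 1) (fun u v => (b - 1).choose (u + v + 1)) p q
    fun u v h => ⟨by omega, by omega⟩

lemma nonneg_Pser (b : ℕ) : Nonneg (Pser b) := fun e => by
  rw [← ex_self e, coeff_Pser]; split <;> simp

lemma nonneg_Nser (b : ℕ) : Nonneg (Nser b) := fun e => by
  rw [← ex_self e, coeff_Nser]; split <;> simp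

variable {b : ℕ} {H : S2}

lemma eq_add (h : (1 - Pser b) * H = Nser b) : H = Nser b + Pser b * H := by
  rw [← h]; ring

lemma coeff_H (h : (1 - Pser b) * H = Nser b) (e : Fin 2 →₀ ℕ) :
    coeff e H = coeff e (Nser b) + coeff e (Pser b * H) :=
  (congrArg (coeff e) (eq_add h)).trans (map_add _ _ _)

lemma nonneg_H (h : (1 - Pser b) * H = Nser b) : ∀ (n p q : ℕ), p ≤ n → 0 ≤ coeff (ex p q) H := by
  intro n
  induction n with
  | zero =>
    intro p q hp
    classical
    rw [coeff_H h, coeff_mul]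
    refine add_nonneg (nonneg_Nser b _) (Finset.sum_nonneg fun x hx => ?_)
    rw [Finset.HasAntidiagonal.mem_antidiagonal] at hx
    rw [← ex_self x.1, coeff_Pser]
    have : x.1 0 + x.2 0 = p := by simpa using congrArg (· 0) hx
    rw [if_neg (by omega), zero_mul]
  | succ n ih =>
    intro p q hp
    classical
    rw [coeff_H h, coeff_mul]
    refine add_nonneg (nonneg_Nser b _) (Finset.sum_nonneg fun x hx => ?_)
    rw [Finset.HasAntidiagonal.mem_antidiagonal] at hx
    rw [← ex_self x.1, coeff_Pser]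
    split
    · have : x.1 0 + x.2 0 = p := by simpa using congrArg (· 0) hx
      rw [← ex_self x.2]
      exact mul_nonneg (by simp) (ih _ _ (by omega))
    · rw [zero_mul]

lemma nonneg_of_eq (h : (1 - Pser b) * H = Nser b) : Nonneg H := fun e => by
  rw [← ex_self e]; exact nonneg_H h _ _ _ le_rfl

lemma support_H (h : (1 - Pser b) * H = Nser b) : ∀ (n p q : ℕ), p ≤ n → coeff (ex p q) H ≠ 0 →
    p + q + 2 ≤ (p + 1) * b := by
  intro n
  induction n with
  | zero =>
    intro p q hp hne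
    rw [coeff_H h] at hne
    by_cases h0 : coeff (ex p q) (Nser b) = 0
    · rw [h0, zero_add] at hne
      obtain ⟨p₁, q₁, p₂, q₂, hp', hq', h₁, -⟩ := exists_of_coeff_mul_ne hne
      rw [coeff_Pser] at h₁
      rw [if_neg (by omega)] at h₁
      exact absurd rfl h₁
    · rw [coeff_Nser] at h0
      split at h0
      · have : b ≤ (p + 1) * b := Nat.le_mul_of_pos_left b (Nat.succ_pos p)
        omega
      · exact absurd rfl h0
  | succ n ih =>
    intro p q hp hne
    rw [coeff_H h] at hne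
    by_cases h0 : coeff (ex p q) (Nser b) = 0
    · rw [h0, zero_add] at hne
      obtain ⟨p₁, q₁, p₂, q₂, hp', hq', h₁, h₂⟩ := exists_of_coeff_mul_ne hne
      rw [coeff_Pser] at h₁
      split at h₁
      · rename_i hc
        have h3 := ih p₂ q₂ (by omega) h₂
        have h4 : (p₂ + 1 + 1) * b ≤ (p + 1) * b := Nat.mul_le_mul_right b (by omega)
        rw [add_mul (p₂ + 1)] at h4
        omega
      · exact absurd rfl h₁
    · rw [coeff_Nser] at h0
      split at h0
      · have : b ≤ (p + 1) * b := Nat.le_mul_of_pos_left b (Nat.succ_pos p)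
        omega
      · exact absurd rfl h0

lemma pos_H (h : (1 - Pser b) * H = Nser b) (hb : 2 ≤ b) : ∀ p q : ℕ, p ≤ q → p + q + 2 ≤ (p + 1) * b →
    0 < coeff (ex p q) H := by
  intro p
  induction p with
  | zero =>
    intro q _ hq
    rw [coeff_H h, coeff_Nser, if_pos (by omega)]
    refine add_pos_of_pos_of_nonneg ?_ ((nonneg_Pser b).mul (nonneg_of_eq h) _)
    exact_mod_cast Nat.choose_pos (by omega)
  | succ p ih =>
    intro q hpq hq
    rw [coeff_H h]
    refine add_pos_of_nonneg_of_pos (nonneg_Nser b _) ?_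
    -- split off one step
    obtain ⟨v, hv1, hv2, hv3, hv4⟩ : ∃ v, 1 ≤ v ∧ v + 1 ≤ b ∧ p + v ≤ q ∧ p + (q - v) + 2 ≤ (p + 1) * b := by
      refine ⟨min (b - 1) (q - p), by omega, by omega, by omega, ?_⟩
      rw [add_mul (p + 1) 1 b] at hq
      have : (p + 1) * 2 ≤ (p + 1) * b := Nat.mul_le_mul_left _ hb
      omega
    have h1 : 0 < coeff (ex 1 v) (Pser b) := by
      rw [coeff_Pser, if_pos ⟨le_rfl, hv1, by omega⟩]
      exact_mod_cast Nat.choose_pos (by omega)
    have h2 := pos_mul (nonneg_Pser b) (nonneg_of_eq h) h1 (ih (q - v) (by omega) hv4)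
    rwa [ex_add, add_comm 1 p, Nat.add_sub_cancel' (by omega : v ≤ q)] at h2

/-- the factor `(1 + y) (1 + z)` -/
noncomputable def Q : S2 := (1 + X 0) * (1 + X 1)

lemma coeff_lin (i : Fin 2) (e : Fin 2 →₀ ℕ) :
    coeff e (1 + X i : S2) = (if e = 0 then 1 else 0) + (if e = Finsupp.single i 1 then 1 else 0) := by
  classical
  rw [map_add, coeff_one', coeff_X]

lemma nonneg_lin (i : Fin 2) : Nonneg (1 + X i : S2) := fun e => by
  rw [coeff_lin]; split <;> split <;> simp

lemma nonneg_Q : Nonneg Q := (nonneg_lin 0).mul (nonneg_lin 1)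

lemma support_Qpow : ∀ (m p q : ℕ), coeff (ex p q) (Q ^ m) ≠ 0 → p ≤ m ∧ q ≤ m := by
  intro m
  induction m with
  | zero =>
    intro p q h
    rw [pow_zero, coeff_one', ← ex_self 0] at h
    simp only [Finsupp.coe_zero, Pi.zero_apply, ex_inj, ne_eq, ite_eq_right_iff, one_ne_zero,
      imp_false, not_not] at h
    omega
  | succ m ih =>
    intro p q h
    rw [pow_succ] at h
    obtain ⟨p₁, q₁, p₂, q₂, rfl, rfl, h₁, h₂⟩ := exists_of_coeff_mul_ne h
    obtain ⟨a, b, c, d, rfl, rfl, h₃, h₄⟩ := exists_of_coeff_mul_ne h₂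
    have := ih _ _ h₁
    rw [coeff_lin, ← ex_self 0, ← ex_self (Finsupp.single _ _)] at h₃ h₄
    simp [ex_inj] at h₃ h₄
    omega

lemma pos_Qpow : ∀ (m β : ℕ), β ≤ m → 0 < coeff (ex 0 β) (Q ^ m) := by
  intro m
  induction m with
  | zero =>
    intro β hβ
    rw [Nat.le_zero.1 hβ, pow_zero, coeff_one', if_pos]
    · norm_num
    · ext i; fin_cases i <;> simp
  | succ m ih =>
    intro β hβ
    rw [pow_succ]
    have hy : 0 < coeff (ex 0 0) (1 + X 0 : S2) := by
      rw [coeff_lin, ← ex_self 0, ← ex_self (Finsupp.single _ _)]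
      simp [ex_inj]
    have hz : ∀ t ≤ 1, 0 < coeff (ex 0 t) (1 + X 1 : S2) := fun t ht => by
      rw [coeff_lin, ← ex_self 0, ← ex_self (Finsupp.single _ _)]
      simp [ex_inj]
      obtain rfl | rfl : t = 0 ∨ t = 1 := by omega
      all_goals simp
    have h1 := pos_mul (nonneg_lin 0) (nonneg_lin 1) hy (hz (β - (β - 1)) (by omega))
    have h2 := pos_mul (nonneg_Q.pow m) nonneg_Q (ih (β - 1) (by omega)) h1
    rwa [ex_add, ex_add, zero_add, zero_add, zero_add, Nat.add_sub_cancel' (Nat.sub_le β 1)] at h2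

variable {d : ℕ} {a : Fin d → ℕ} {Hs : Fin d → S2}

lemma support_prod (h : ∀ i, (1 - Pser (a i)) * Hs i = Nser (a i)) (A : ℕ) (hA : ∀ i, a i ≤ A)
    (P : Finset (Fin d)) : ∀ p q : ℕ, coeff (ex p q) (∏ i ∈ P, Hs i) ≠ 0 →
      p + q + 2 * P.card ≤ p * A + ∑ i ∈ P, a i := by
  induction P using Finset.induction with
  | empty =>
    intro p q h'
    rw [Finset.prod_empty, coeff_one', ← ex_self 0] at h'
    simp [ex_inj] at h'
    simp [h'.1, h'.2]
  | insert i P hi ih =>
    intro p q h'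
    rw [Finset.prod_insert hi] at h'
    obtain ⟨p₁, q₁, p₂, q₂, rfl, rfl, h₁, h₂⟩ := exists_of_coeff_mul_ne h'
    have e1 := support_H (h i) _ _ _ le_rfl h₁
    have e2 := ih _ _ h₂
    rw [Finset.card_insert_of_notMem hi, Finset.sum_insert hi, add_mul]
    rw [add_mul, one_mul] at e1
    have : p₁ * a i ≤ p₁ * A := Nat.mul_le_mul_left _ (hA i)
    omega

lemma pos_prod_zero (h : ∀ i, (1 - Pser (a i)) * Hs i = Nser (a i)) (P : Finset (Fin d))
    (hP : ∀ i ∈ P, 2 ≤ a i) : ∀ q : ℕ, q ≤ ∑ i ∈ P, (a i - 2) → 0 < coeff (ex 0 q) (∏ i ∈ P, Hs i) := by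
  induction P using Finset.induction with
  | empty =>
    intro q hq
    rw [Finset.sum_empty, Nat.le_zero] at hq
    rw [hq, Finset.prod_empty, coeff_one', if_pos]
    · norm_num
    · ext i; fin_cases i <;> simp
  | insert i P hi ih =>
    intro q hq
    rw [Finset.sum_insert hi] at hq
    rw [Finset.prod_insert hi]
    have hb := hP i (Finset.mem_insert_self _ _)
    have h1 := pos_H (h i) hb 0 (min q (a i - 2)) (Nat.zero_le _) (by omega)
    have h2 := ih (fun j hj => hP j (Finset.mem_insert_of_mem hj)) (q - min q (a i - 2)) (by omega)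
    have h3 := pos_mul (nonneg_of_eq (h i)) (nonneg_prod P _ fun j _ => nonneg_of_eq (h j)) h1 h2
    rwa [ex_add, zero_add, Nat.add_sub_cancel' (min_le_left _ _)] at h3

theorem coeff_ne_zero_iff (ha : ∀ i, 1 ≤ a i) (h : ∀ i, (1 - Pser (a i)) * Hs i = Nser (a i))
    {p q : ℕ} (hpq : p ≤ q) :
    coeff (ex p q) (∑ P ∈ (Finset.univ : Finset (Fin d)).powerset with P.Nonempty,
      Q ^ (P.card - 1) * ∏ i ∈ P, Hs i) ≠ 0 ↔
      p + q + d < p * Finset.univ.sup a + ∑ i, a i := by
  classical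
  have hA : ∀ i, a i ≤ Finset.univ.sup a := fun i => Finset.le_sup (Finset.mem_univ i)
  constructor
  · intro hne
    rw [map_sum] at hne
    obtain ⟨P, hP, hne⟩ := Finset.exists_ne_zero_of_sum_ne_zero hne
    rw [Finset.mem_filter] at hP
    obtain ⟨α, β, p', q', rfl, rfl, h₁, h₂⟩ := exists_of_coeff_mul_ne hne
    have e1 := support_Qpow _ _ _ h₁
    have e2 := support_prod h _ hA P _ _ h₂
    have e3 : d ≤ P.card + ∑ i ∈ Pᶜ, a i := by
      have := Finset.card_compl P
      have h4 : Pᶜ.card ≤ ∑ i ∈ Pᶜ, a i := by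
        simpa using Finset.sum_le_sum (s := Pᶜ) (fun i _ => ha i)
      have := Finset.card_le_univ P
      simp only [Fintype.card_fin] at *
      omega
    have e4 := Finset.sum_add_sum_compl P a
    have e5 := hP.2.card_pos
    rw [add_mul]
    have e6 : α ≤ α * Finset.univ.sup a := by
      obtain ⟨i, _⟩ := hP.2
      exact Nat.le_mul_of_pos_right α (lt_of_lt_of_le (ha i) (hA i))
    omega
  · intro hlt
    set P : Finset (Fin d) := Finset.univ.filter (fun i => 2 ≤ a i) with hPdef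
    have hones : ∀ i ∈ Pᶜ, a i = 1 := fun i hi => by
      have := ha i
      simp [hPdef] at hi
      omega
    have hsum : ∑ i, a i + P.card = ∑ i ∈ P, a i + d := by
      have e1 := Finset.sum_add_sum_compl P a
      have e2 : ∑ i ∈ Pᶜ, a i = Pᶜ.card := by rw [Finset.sum_congr rfl hones]; simp
      have := Finset.card_compl P
      have := Finset.card_le_univ P
      simp only [Fintype.card_fin] at *
      omega
    have hPne : P.Nonempty := by
      rw [Finset.nonempty_iff_ne_empty]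
      intro hE
      rw [hE, Finset.card_empty, Finset.sum_empty] at hsum
      have hall : ∀ i, a i ≤ 1 := fun i => by
        have := hones i (by simp [hE])
        omega
      have : p * Finset.univ.sup a ≤ p * 1 := Nat.mul_le_mul_left _ (Finset.sup_le fun i _ => hall i)
      omega
    obtain ⟨i₀, hi₀, hmax⟩ := P.exists_max_image a hPne
    have hsup : Finset.univ.sup a = a i₀ := le_antisymm (Finset.sup_le fun i _ => by
      by_cases hi : i ∈ P
      · exact hmax i hi
      · have := hones i (Finset.mem_compl.2 hi)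
        have := ha i₀
        omega) (hA i₀)
    rw [hsup] at hlt
    have hb : 2 ≤ a i₀ := (Finset.mem_filter.1 hi₀).2
    have hsplit := Finset.add_sum_erase P a hi₀
    have herase : ∑ i ∈ P.erase i₀, (a i - 2) + 2 * (P.card - 1) = ∑ i ∈ P.erase i₀, a i := by
      rw [← Finset.card_erase_of_mem hi₀, mul_comm, ← smul_eq_mul, ← Finset.sum_const,
        ← Finset.sum_add_distrib]
      refine Finset.sum_congr rfl fun i hi => ?_
      have := (Finset.mem_filter.1 (Finset.mem_of_mem_erase hi)).2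
      omega
    have hcard := hPne.card_pos
    have hp2 : p * 2 ≤ p * a i₀ := Nat.mul_le_mul_left _ hb
    set q₀ := min q (p * a i₀ - p + (a i₀ - 2)) with hq₀
    set q₁ := min (q - q₀) (∑ i ∈ P.erase i₀, (a i - 2)) with hq₁
    have hβ : q - q₀ - q₁ ≤ P.card - 1 := by omega
    have hH := pos_H (h i₀) hb p q₀ (by omega) (by rw [add_mul, one_mul]; omega)
    have hR := pos_prod_zero h (P.erase i₀) (fun i hi => (Finset.mem_filter.1 (Finset.mem_of_mem_erase hi)).2)
      q₁ (by omega)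
    have hprod := pos_mul (nonneg_of_eq (h i₀)) (nonneg_prod _ _ fun j _ => nonneg_of_eq (h j)) hH hR
    rw [ex_add, add_zero, Finset.mul_prod_erase P Hs hi₀] at hprod
    have hall := pos_mul (nonneg_Q.pow (P.card - 1)) (nonneg_prod P _ fun j _ => nonneg_of_eq (h j))
      (pos_Qpow _ _ hβ) hprod
    rw [ex_add, zero_add, show q - q₀ - q₁ + (q₀ + q₁) = q by omega] at hall
    rw [map_sum]
    refine (lt_of_lt_of_le hall (Finset.single_le_sum
      (f := fun P : Finset (Fin d) => coeff (ex p q) (Q ^ (P.card - 1) * ∏ i ∈ P, Hs i))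
      (fun R _ => ((nonneg_Q.pow _).mul (nonneg_prod R _ fun j _ => nonneg_of_eq (h j))) _)
      (Finset.mem_filter.2 ⟨Finset.mem_powerset.2 (Finset.subset_univ P), hPne⟩))).ne'

theorem level_iff (ha : ∀ i, 1 ≤ a i) (h : ∀ i, (1 - Pser (a i)) * Hs i = Nser (a i))
    (i₀ : Fin d) (hi₀ : ∀ i, a i ≤ a i₀) (n l : ℕ) (hl : l < n) (hpar : l % 2 = n % 2) :
    (∀ p q : ℕ, p + q = n → p ≤ q → l < q - p → coeff (ex p q)
      (∑ P ∈ (Finset.univ : Finset (Fin d)).powerset with P.Nonempty, Q ^ (P.card - 1) * ∏ i ∈ P, Hs i) = 0) ↔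
      2 * (∑ i ∈ Finset.univ.erase i₀, ((a i : ℤ) - 1)) + ((a i₀ : ℤ) - 2) * ((n : ℤ) - l) ≤ 2 * ((l : ℤ) + 1) := by
  have hsup : Finset.univ.sup a = a i₀ :=
    le_antisymm (Finset.sup_le fun i _ => hi₀ i) (Finset.le_sup (Finset.mem_univ i₀))
  obtain ⟨p₀, hp₀⟩ : ∃ p₀, n = l + 2 * (p₀ + 1) := ⟨(n - l) / 2 - 1, by omega⟩
  have e : (∑ i ∈ Finset.univ.erase i₀, ((a i : ℤ) - 1)) = (∑ i, (a i : ℤ)) - a i₀ - (d - 1) := by
    rw [Finset.sum_sub_distrib, Finset.sum_erase_eq_sub (Finset.mem_univ i₀), Finset.sum_const,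
      Finset.card_erase_of_mem (Finset.mem_univ i₀)]
    simp only [Finset.card_univ, Fintype.card_fin, nsmul_eq_mul, mul_one]
    have : 1 ≤ d := Nat.one_le_iff_ne_zero.2 (by rintro rfl; exact i₀.elim0)
    push_cast [Nat.cast_sub this]
    ring
  have key : (2 * (∑ i ∈ Finset.univ.erase i₀, ((a i : ℤ) - 1)) + ((a i₀ : ℤ) - 2) * ((n : ℤ) - l) ≤
      2 * ((l : ℤ) + 1)) ↔ p₀ * a i₀ + ∑ i, a i ≤ n + d := by
    rw [e, hp₀]
    zify
    constructor <;> intro hh <;> nlinarith [hh]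
  rw [key]
  constructor
  · intro hz
    by_contra hc
    refine (coeff_ne_zero_iff ha h (p := p₀) (q := p₀ + l + 2) (by omega)).2 ?_
      (hz _ _ (by omega) (by omega) (by omega))
    rw [hsup]; omega
  · intro hle p q hn hpq hd'
    by_contra hne
    have := (coeff_ne_zero_iff ha h hpq).1 hne
    rw [hsup] at this
    have : p * a i₀ ≤ p₀ * a i₀ := Nat.mul_le_mul_right _ (by omega)
    omega

end Groth.L28.HodgeSeries
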